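import Mathlib.Algebra.Category.Grp.AB
import Mathlib.CategoryTheory.Limits.Shapes.Products

set_option autoImplicit false
universe u
open CategoryTheory CategoryTheory.Limits Opposite

namespace Groth.Agent.H45

noncomputable def piConstIso (I : Type u) (M : AddCommGrpCat.{u}) :
    limit ((Functor.const (Discrete I)).obj M) ≅ ∏ᶜ (fun _ : I => M) :=
  HasLimit.isoOfNatIso (Discrete.natIso (fun _ => Iso.refl _))

lemma piConstIso_hom_π (I : Type u) (M : AddCommGrpCat.{u}) (j : I) :
    (piConstIso I M).hom ≫ Pi.π (fun _ : I => M) j =
      limit.π ((Functor.const (Discrete I)).obj M) ⟨j⟩ := by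
  simp [piConstIso, Pi.π]

theorem preservesFiniteColimits_piFunctor_flip_obj (I : Type u) :
    PreservesFiniteColimits ((piFunctor.{u} (C := AddCommGrpCat.{u})).flip.obj (op I)) := by
  let e : (Functor.const (Discrete I)) ⋙ lim ≅
      (piFunctor.{u} (C := AddCommGrpCat.{u})).flip.obj (op I) :=
    NatIso.ofComponents (fun M => piConstIso I M) (by
      intro M N f
      show limMap ((Functor.const (Discrete I)).map f) ≫ (piConstIso I N).hom =
        (piConstIso I M).hom ≫ Limits.Pi.map (fun _ : I => f)
      apply Pi.hom_ext
      intro j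
      rw [Category.assoc, Category.assoc, piConstIso_hom_π, Limits.Pi.map_π, ← Category.assoc,
        piConstIso_hom_π, limMap_π]
      rfl)
  have : PreservesColimitsOfSize.{0, 0} (Functor.const (Discrete I) : AddCommGrpCat.{u} ⥤ _) :=
    constLimAdj.leftAdjoint_preservesColimits
  have : PreservesFiniteColimits (Functor.const (Discrete I) : AddCommGrpCat.{u} ⥤ _) :=
    PreservesColimitsOfSize.preservesFiniteColimits _
  have : PreservesFiniteColimits ((Functor.const (Discrete I) : AddCommGrpCat.{u} ⥤ _) ⋙ lim) :=
    comp_preservesFiniteColimits _ _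
  exact preservesFiniteColimits_of_natIso e

end Groth.Agent.H45
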